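import Groth.Agent.SrcDescent.FlatModelAlg
import Groth.Agent.FlatX.Algebra
import Groth.Agent.FibFlat.Descent
import Mathlib.RingTheory.TensorProduct.DirectLimitFG
import Mathlib.RingTheory.TensorProduct.Quotient

/-!
A finitely presented algebra over an arbitrary ring is flat along a nonzerodivisor with flat quotient.
-/

set_option autoImplicit false

set_option synthInstance.maxHeartbeats 400000
set_option maxHeartbeats 1000000

universe u

open TensorProduct

namespace Groth.Agent.Div86.FlatCartier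

variable {R A : Type u} [CommRing R] [CommRing A] [Algebra R A]

/-- Base change is exact in degree zero along an element with flat quotient. -/
theorem mul_eq_zero_of_flat_quot (h : A) [Module.Flat R (A ⧸ Ideal.span {h})] (R' : Type u)
    [CommRing R'] [Algebra R R'] (hK : ∀ k : A, h * k = 0 → (1 : R') ⊗ₜ[R] k = 0)
    {x : R' ⊗[R] A} (hx : ((1 : R') ⊗ₜ[R] h) * x = 0) : x = 0 := by
  let m : A →ₗ[R] A := LinearMap.mulLeft R h
  let q : A →ₗ[R] A ⧸ Ideal.span {h} := (Ideal.Quotient.mkₐ R (Ideal.span {h})).toLinearMap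
  have hex : Function.Exact (LinearMap.range m).subtype q := fun y => by
    simp only [q, m, Submodule.coe_subtype, Subtype.range_coe_subtype, AlgHom.toLinearMap_apply,
      Ideal.Quotient.mkₐ_eq_mk, Ideal.Quotient.eq_zero_iff_mem, Ideal.mem_span_singleton,
      Set.mem_setOf_eq, LinearMap.mem_range, LinearMap.mulLeft_apply]
    exact ⟨fun ⟨c, hc⟩ => ⟨c, hc.symm⟩, fun ⟨c, hc⟩ => ⟨c, hc.symm⟩⟩
  have hui := CAlgUI.ui_of_flat_quotient (g := q) Subtype.val_injective hex Ideal.Quotient.mk_surjective R'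
  have hinj : Function.Injective ((LinearMap.range m).subtype.lTensor R') :=
    (LinearMap.lTensor_inj_iff_rTensor_inj R' _).2 hui
  have hm : ∀ y : R' ⊗[R] A, m.lTensor R' y = ((1 : R') ⊗ₜ[R] h) * y := by
    intro y
    induction y using TensorProduct.induction_on with
    | zero => simp
    | tmul r a => simp [m, Algebra.TensorProduct.tmul_mul_tmul]
    | add y z hy hz => rw [map_add, hy, hz, mul_add]
  have h1 : m.rangeRestrict.lTensor R' x = 0 := by
    refine hinj ?_
    rw [map_zero, ← LinearMap.comp_apply, ← LinearMap.lTensor_comp,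
      show (LinearMap.range m).subtype ∘ₗ m.rangeRestrict = m from rfl, hm, hx]
  have hex' : Function.Exact (LinearMap.ker m).subtype m.rangeRestrict := by
    rw [LinearMap.exact_iff, LinearMap.ker_rangeRestrict, Submodule.range_subtype]
  obtain ⟨y, rfl⟩ := (lTensor_exact R' hex' m.surjective_rangeRestrict x).1 h1
  clear h1 hx
  induction y using TensorProduct.induction_on with
  | zero => simp
  | tmul r k =>
    rw [LinearMap.lTensor_tmul, Submodule.coe_subtype]
    have h0 := hK k.1 (LinearMap.mem_ker.1 k.2)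
    have : r ⊗ₜ[R] (k : A) = r • ((1 : R') ⊗ₜ[R] (k : A)) := by
      rw [TensorProduct.smul_tmul', smul_eq_mul, mul_one]
    rw [this, h0, smul_zero]
  | add y z hy hz => rw [map_add, hy, hz, add_zero]

/-- Flatness along a nonzerodivisor with flat quotient, Noetherian model. -/
theorem flat_atPrime_of_model {B : Type u} [CommRing B] [Algebra R B] [IsNoetherianRing B] (h : B)
    (hh : h ∈ nonZeroDivisors B) [Module.Flat R (B ⧸ Ideal.span {h})]
    (R' : Type u) [CommRing R'] [Algebra R R']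
    (Q : Ideal (R' ⊗[R] B)) [Q.IsPrime] (hQ : (1 : R') ⊗ₜ[R] h ∈ Q) :
    Module.Flat R' (Localization.AtPrime Q) := by
  let S : Submonoid B := (IsUnit.submonoid (B ⧸ Ideal.span {h}) ⊓ ⊥).comap
    (Ideal.Quotient.mk (Ideal.span {h})).toMonoidHom
  have memS : ∀ s, s ∈ S ↔ s - 1 ∈ Ideal.span {h} := fun s => by
    simp only [S, Submonoid.mem_comap, Submonoid.mem_inf, Submonoid.mem_bot, IsUnit.mem_submonoid_iff]
    exact ⟨fun hs => Ideal.Quotient.eq.1 hs.2, fun hs =>
      have he := Ideal.Quotient.eq.2 hs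
      ⟨he ▸ isUnit_one, he⟩⟩
  let L := Localization S
  let AQ := Localization.AtPrime Q
  let inc : B →ₐ[R] R' ⊗[R] B := Algebra.TensorProduct.includeRight
  have hS : ∀ s ∈ S, inc s - 1 ∈ Q := by
    intro s hs
    obtain ⟨c, hc⟩ := Ideal.mem_span_singleton.1 ((memS s).1 hs)
    rw [← map_one inc, ← map_sub, hc, map_mul]
    exact Q.mul_mem_right _ hQ
  have hSQ : ∀ s ∈ S, inc s ∉ Q := fun s hs hsQ =>
    ‹Q.IsPrime›.ne_top ((Ideal.eq_top_iff_one Q).2 (by simpa using Q.sub_mem hsQ (hS s hs)))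
  -- the Noetherian localization is flat
  have hLflat : Module.Flat R L := by
    have hquot : Module.Flat R (L ⧸ (Ideal.span {h}).map (algebraMap B L)) := by
      haveI : IsScalarTower R (B ⧸ Ideal.span {h}) (L ⧸ (Ideal.span {h}).map (algebraMap B L)) := by
        refine IsScalarTower.of_algebraMap_eq fun x => ?_
        change _ = Ideal.Quotient.mk _ (algebraMap B L (algebraMap R B x))
        rw [← IsScalarTower.algebraMap_apply]
        rfl
      haveI : Module.Flat (B ⧸ Ideal.span {h}) (L ⧸ (Ideal.span {h}).map (algebraMap B L)) :=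
        IsLocalization.flat _ (Algebra.algebraMapSubmonoid (B ⧸ Ideal.span {h}) S)
      exact Module.Flat.trans R (B ⧸ Ideal.span {h}) _
    rw [Ideal.map_span, Set.image_singleton] at hquot
    haveI : IsNoetherianRing L := IsLocalization.isNoetherianRing S L inferInstance
    refine FlatX.flat_of_quot_flat_noetherian (IsLocalization.map_nonZeroDivisors_le S L ⟨h, hh, rfl⟩) ?_ hquot
    rw [Ideal.mem_jacobson_bot]
    intro y
    obtain ⟨b, s, rfl⟩ := IsLocalization.exists_mk'_eq S y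
    have hmem : h * b + s ∈ S := by
      rw [memS, add_sub_assoc]
      exact add_mem (Ideal.mul_mem_right _ _ (Ideal.mem_span_singleton_self h)) ((memS _).1 s.2)
    have hu : IsUnit ((algebraMap B L h * IsLocalization.mk' L b s + 1) * algebraMap B L s) := by
      rw [add_mul, one_mul, mul_assoc, IsLocalization.mk'_spec, ← map_mul, ← map_add]
      exact IsLocalization.map_units L ⟨_, hmem⟩
    exact (IsUnit.mul_iff.1 hu).1
  -- transport to the base change
  let φ : R' ⊗[R] B →ₐ[R'] R' ⊗[R] L :=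
    Algebra.TensorProduct.map (AlgHom.id R' R') (IsScalarTower.toAlgHom R B L)
  have hu : ∀ s : S, IsUnit (((IsScalarTower.toAlgHom R (R' ⊗[R] B) AQ).comp inc) s) := fun s =>
    IsLocalization.map_units AQ (⟨inc s, hSQ s s.2⟩ : Q.primeCompl)
  let ψ : R' ⊗[R] L →ₐ[R'] AQ := Algebra.TensorProduct.lift (Algebra.ofId R' AQ)
    (IsLocalization.liftAlgHom (M := S) (S := L) hu) fun _ _ => Commute.all _ _
  have hψφ : ∀ a, ψ (φ a) = algebraMap (R' ⊗[R] B) AQ a := by
    intro a
    induction a using TensorProduct.induction_on with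
    | zero => simp
    | tmul r b =>
      simp only [φ, ψ, Algebra.TensorProduct.map_tmul, AlgHom.coe_id, id_eq,
        IsScalarTower.coe_toAlgHom', Algebra.TensorProduct.lift_tmul, IsLocalization.liftAlgHom_apply,
        IsLocalization.lift_eq, Algebra.ofId_apply]
      show algebraMap R' AQ r * algebraMap (R' ⊗[R] B) AQ (1 ⊗ₜ b) = _
      rw [IsScalarTower.algebraMap_apply R' (R' ⊗[R] B) AQ, ← map_mul,
        Algebra.TensorProduct.algebraMap_apply, Algebra.TensorProduct.tmul_mul_tmul, one_mul,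
        Algebra.algebraMap_self_apply, mul_one]
    | add a b ha hb => simp only [map_add, ha, hb]
  have hsurj : ∀ y : R' ⊗[R] L, ∃ a, ∃ s ∈ S, y * φ (inc s) = φ a := by
    intro y
    induction y using TensorProduct.induction_on with
    | zero => exact ⟨0, 1, S.one_mem, by simp⟩
    | tmul r l =>
      obtain ⟨b, s, rfl⟩ := IsLocalization.exists_mk'_eq S l
      refine ⟨r ⊗ₜ b, s, s.2, ?_⟩
      simp [φ, inc, IsLocalization.mk'_spec]
    | add y z hy hz =>
      obtain ⟨a, s, hs, ha⟩ := hy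
      obtain ⟨c, t, ht, hc⟩ := hz
      refine ⟨a * inc t + c * inc s, s * t, S.mul_mem hs ht, ?_⟩
      rw [map_mul, map_mul, map_add, map_mul, map_mul, ← ha, ← hc]
      ring
  have hφu : ∀ s ∈ S, IsUnit (φ (inc s)) := fun s hs => by
    simp only [φ, inc, Algebra.TensorProduct.includeRight_apply, Algebra.TensorProduct.map_tmul,
      map_one, IsScalarTower.coe_toAlgHom']
    exact (IsLocalization.map_units L ⟨s, hs⟩).map (Algebra.TensorProduct.includeRight : L →ₐ[R] R' ⊗[R] L)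
  letI : Algebra (R' ⊗[R] L) AQ := ψ.toRingHom.toAlgebra
  haveI : IsScalarTower R' (R' ⊗[R] L) AQ := IsScalarTower.of_algebraMap_eq fun x => (ψ.commutes x).symm
  haveI : IsLocalization (Q.primeCompl.map φ.toRingHom.toMonoidHom) AQ := by
    refine ⟨?_, ?_, ?_⟩
    · rintro ⟨_, a, ha, rfl⟩
      show IsUnit (ψ (φ a))
      rw [hψφ]
      exact IsLocalization.map_units AQ ⟨a, ha⟩
    · intro z
      obtain ⟨⟨a, s⟩, hz⟩ := IsLocalization.surj Q.primeCompl z
      refine ⟨⟨φ a, ⟨φ s, s, s.2, rfl⟩⟩, ?_⟩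
      show z * ψ (φ s) = ψ (φ a)
      rw [hψφ, hψφ, hz]
    · intro y z hyz
      change ψ y = ψ z at hyz
      obtain ⟨a, s, hs, ha⟩ := hsurj y
      obtain ⟨c, t, ht, hc⟩ := hsurj z
      have he : algebraMap (R' ⊗[R] B) AQ (a * inc t) = algebraMap _ AQ (c * inc s) := by
        rw [← hψφ, ← hψφ, map_mul φ, map_mul φ, ← ha, ← hc]
        simp only [map_mul]
        rw [hyz]; ring
      obtain ⟨d, hd⟩ := (IsLocalization.eq_iff_exists Q.primeCompl AQ).1 he
      refine ⟨⟨φ d, d, d.2, rfl⟩, ?_⟩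
      show φ d * y = φ d * z
      refine ((hφu s hs).mul (hφu t ht)).mul_left_cancel ?_
      have := congrArg φ hd
      simp only [map_mul, ← ha, ← hc] at this
      linear_combination this
  haveI : Module.Flat (R' ⊗[R] L) AQ := IsLocalization.flat _ (Q.primeCompl.map φ.toRingHom.toMonoidHom)
  exact Module.Flat.trans R' (R' ⊗[R] L) AQ

/-- The argument at a stage where the element is a nonzerodivisor. -/
theorem flat_atPrime_of_stage {R₁ A₁ R₂ : Type u} [CommRing R₁] [CommRing A₁] [CommRing R₂]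
    [Algebra R₁ A₁] [Algebra R₁ R₂] [Algebra R₁ R] [Algebra R₂ R] [IsScalarTower R₁ R₂ R]
    [IsNoetherianRing R₂] [Algebra.FiniteType R₁ A₁] (h₁ : A₁) [Module.Flat R₁ (A₁ ⧸ Ideal.span {h₁})]
    (e : R ⊗[R₁] A₁ ≃ₐ[R] A) (h : A) (he : e ((1 : R) ⊗ₜ h₁) = h)
    (hkill : ∀ k : A₁, h₁ * k = 0 → (1 : R₂) ⊗ₜ[R₁] k = 0)
    (Q : Ideal A) [Q.IsPrime] (hQ : h ∈ Q) : Module.Flat R (Localization.AtPrime Q) := by
  haveI : IsNoetherianRing (R₂ ⊗[R₁] A₁) := Algebra.FiniteType.isNoetherianRing R₂ _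
  let h₂ : R₂ ⊗[R₁] A₁ := (1 : R₂) ⊗ₜ h₁
  haveI : Module.Flat R₂ ((R₂ ⊗[R₁] A₁) ⧸ Ideal.span {h₂}) := by
    refine Module.Flat.of_linearEquiv (((Ideal.quotientEquivAlgOfEq R₂ ?_).trans
      (Algebra.TensorProduct.tensorQuotientEquiv (R := R₁) R₂ A₁ R₂ (Ideal.span {h₁})).symm).toLinearEquiv)
    rw [Ideal.map_span, Set.image_singleton]
    rfl
  have hh₂ : h₂ ∈ nonZeroDivisors (R₂ ⊗[R₁] A₁) :=
    mem_nonZeroDivisors_iff_right.2 fun x hx =>
      mul_eq_zero_of_flat_quot h₁ R₂ hkill (by rw [mul_comm]; exact hx)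
  let e₂ : R ⊗[R₂] (R₂ ⊗[R₁] A₁) ≃ₐ[R] A :=
    (Algebra.TensorProduct.cancelBaseChange R₁ R₂ R R A₁).trans e
  let Q' : Ideal (R ⊗[R₂] (R₂ ⊗[R₁] A₁)) := Q.comap e₂.toRingHom
  haveI : Q'.IsPrime := Ideal.IsPrime.comap _
  have hQ' : (1 : R) ⊗ₜ[R₂] h₂ ∈ Q' := by
    change e₂ _ ∈ Q
    rw [show e₂ ((1 : R) ⊗ₜ[R₂] h₂) = h by
      simp only [e₂, h₂, AlgEquiv.trans_apply, Algebra.TensorProduct.cancelBaseChange_tmul, one_smul]
      exact he]
    exact hQ
  haveI := flat_atPrime_of_model h₂ hh₂ R Q' hQ'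
  exact Module.Flat.of_linearEquiv
    (Localization.localAlgEquiv Q' Q e₂ rfl).symm.toLinearEquiv

/-- The argument once the quotient is flat over a Noetherian stage. -/
theorem flat_atPrime_of_kill {R₁ A₁ : Type u} [CommRing R₁] [CommRing A₁] [IsNoetherianRing R₁]
    [Algebra R₁ A₁] [Algebra R₁ R] [Algebra.FiniteType R₁ A₁] (h₁ : A₁)
    [Module.Flat R₁ (A₁ ⧸ Ideal.span {h₁})] (e : R ⊗[R₁] A₁ ≃ₐ[R] A) (h : A)
    (he : e ((1 : R) ⊗ₜ h₁) = h) (hh : h ∈ nonZeroDivisors A)
    (Q : Ideal A) [Q.IsPrime] (hQ : h ∈ Q) : Module.Flat R (Localization.AtPrime Q) := by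
  classical
  haveI : IsNoetherianRing A₁ := Algebra.FiniteType.isNoetherianRing R₁ A₁
  obtain ⟨K, hK⟩ := (IsNoetherian.noetherian
    (LinearMap.ker (LinearMap.mulLeft A₁ h₁)) : Submodule.FG _)
  have hkill : ∀ F : Finset A₁, (∀ k ∈ F, h₁ * k = 0) → ∃ R₂ : Subalgebra R₁ R, R₂.FG ∧
      ∀ k ∈ F, (1 : R₂) ⊗ₜ[R₁] k = 0 := by
    intro F
    induction F using Finset.induction with
    | empty => exact fun _ => ⟨⊥, Subalgebra.fg_bot, by simp⟩
    | insert k F _ ih =>
      intro hF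
      obtain ⟨R₂, h₂, h₂'⟩ := ih fun z hz => hF z (Finset.mem_insert_of_mem hz)
      have hzero : (1 : R) ⊗ₜ[R₁] k = 0 := by
        refine e.injective ?_
        rw [map_zero]
        have h0 : h * e ((1 : R) ⊗ₜ k) = 0 := by
          rw [← he, ← map_mul, Algebra.TensorProduct.tmul_mul_tmul, one_mul,
            hF k (Finset.mem_insert_self _ _), TensorProduct.tmul_zero, map_zero]
        exact (mem_nonZeroDivisors_iff.1 hh).1 _ h0
      obtain ⟨R₃, hle, h₃, heq⟩ := TensorProduct.Algebra.eq_of_fg_of_subtype_eq (A := R₂) h₂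
        (t := (1 : R₂) ⊗ₜ[R₁] k) (t' := 0) (by simpa using hzero)
      refine ⟨R₃, h₃, fun z hz => ?_⟩
      rcases Finset.mem_insert.1 hz with rfl | hz
      · simpa using heq
      · have := congrArg ((Subalgebra.inclusion hle).toLinearMap.rTensor A₁) (h₂' z hz)
        simpa using this
  obtain ⟨R₂, hR₂, hkill⟩ := hkill K fun k hk =>
    LinearMap.mem_ker.1 (hK.le (Submodule.subset_span hk))
  haveI : Algebra.FiniteType R₁ R₂ := (Subalgebra.fg_iff_finiteType R₂).1 hR₂
  haveI : IsNoetherianRing R₂ := Algebra.FiniteType.isNoetherianRing R₁ R₂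
  refine flat_atPrime_of_stage (R₂ := R₂) h₁ e h he (fun k hk => ?_) Q hQ
  have hmem : k ∈ Submodule.span A₁ (K : Set A₁) := hK.ge (LinearMap.mem_ker.2 hk)
  clear hk
  induction hmem using Submodule.span_induction with
  | mem z hz => exact hkill z hz
  | zero => exact TensorProduct.tmul_zero _ _
  | add a b _ _ ha hb => rw [TensorProduct.tmul_add, ha, hb, add_zero]
  | smul a z _ hz =>
    rw [smul_eq_mul, show (1 : R₂) ⊗ₜ[R₁] (a * z) = ((1 : R₂) ⊗ₜ a) * ((1 : R₂) ⊗ₜ z) by
      rw [Algebra.TensorProduct.tmul_mul_tmul, one_mul], hz, mul_zero]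

open MvPolynomial in
/-- The argument after a stage with flat quotient has been found. -/
theorem flat_atPrime_aux {n : ℕ} {R₀ R₁ : Type u} [CommRing R₀] [CommRing R₁] [IsNoetherianRing R₁]
    [Algebra R₀ R₁] [Algebra R₁ R] [Algebra R₀ R] [IsScalarTower R₀ R₁ R] [Algebra R₁ A]
    [IsScalarTower R₁ R A] (φ : MvPolynomial (Fin n) R →ₐ[R] A) (hφ : Function.Surjective φ)
    (p : MvPolynomial (Fin n) R) (hh : φ p ∈ nonZeroDivisors A) (p₀ : MvPolynomial (Fin n) R₀)
    (hp₀ : MvPolynomial.map (algebraMap R₀ R) p₀ = p) (I₀ : Ideal (MvPolynomial (Fin n) R₀))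
    (hI₀ : I₀.map (MvPolynomial.map (algebraMap R₀ R)) = RingHom.ker φ)
    (hflat₁ : Module.Flat R₁ (MvPolynomial (Fin n) R₁ ⧸
      (I₀ ⊔ Ideal.span {p₀}).map (MvPolynomial.map (algebraMap R₀ R₁))))
    (Q : Ideal A) [Q.IsPrime] (hQ : φ p ∈ Q) : Module.Flat R (Localization.AtPrime Q) := by
  classical
  let I₁ : Ideal (MvPolynomial (Fin n) R₁) := I₀.map (MvPolynomial.map (algebraMap R₀ R₁))
  let A₁ := MvPolynomial (Fin n) R₁ ⧸ I₁
  let p₁ : MvPolynomial (Fin n) R₁ := MvPolynomial.map (algebraMap R₀ R₁) (p₀)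
  let h₁ : A₁ := Ideal.Quotient.mk I₁ p₁
  haveI : Module.Flat R₁ (A₁ ⧸ Ideal.span {h₁}) := by
    haveI : Module.Flat R₁ (MvPolynomial (Fin n) R₁ ⧸ I₁ ⊔ Ideal.span {p₁}) := by
      rw [Ideal.map_sup, Ideal.map_span, Set.image_singleton] at hflat₁
      exact hflat₁
    refine Module.Flat.of_linearEquiv (((Ideal.quotientEquivAlgOfEq R₁ ?_).trans
      (DoubleQuot.quotQuotEquivQuotSupₐ R₁ I₁ (Ideal.span {p₁}))).toLinearEquiv)
    rw [Ideal.map_span, Set.image_singleton]
    rfl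
  -- the model computes `A`
  have hmap : ∀ q : MvPolynomial (Fin n) R₀, MvPolynomial.map (algebraMap R₁ R)
      (MvPolynomial.map (algebraMap R₀ R₁) q) = MvPolynomial.map (algebraMap R₀ R) q := fun q => by
    rw [MvPolynomial.map_map, ← IsScalarTower.algebraMap_eq]
  let f₁ : MvPolynomial (Fin n) R₁ →ₐ[R₁] A := MvPolynomial.aeval fun i => φ (X i)
  have hf₁ : ∀ q, f₁ q = φ (MvPolynomial.map (algebraMap R₁ R) q) := by
    intro q
    induction q using MvPolynomial.induction_on with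
    | C r =>
      rw [MvPolynomial.map_C]
      show f₁ (C r) = φ (C (algebraMap R₁ R r))
      rw [← MvPolynomial.algebraMap_eq, ← MvPolynomial.algebraMap_eq, f₁.commutes, φ.commutes,
        ← IsScalarTower.algebraMap_apply]
    | add a b ha hb => simp only [map_add, ha, hb]
    | mul_X a i ha => simp [ha, f₁]
  have hI₁ : ∀ q ∈ I₁, f₁ q = 0 := by
    intro q hq
    rw [hf₁]
    have : MvPolynomial.map (algebraMap R₁ R) q ∈ RingHom.ker φ := by
      rw [← hI₀]
      have hq' := Ideal.mem_map_of_mem (MvPolynomial.map (algebraMap R₁ R)) hq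
      rwa [Ideal.map_map, show (MvPolynomial.map (algebraMap R₁ R)).comp
        (MvPolynomial.map (algebraMap R₀ R₁)) = MvPolynomial.map (algebraMap R₀ R) from
          RingHom.ext hmap] at hq'
    exact this
  let Ψ : R ⊗[R₁] A₁ →ₐ[R] A := Algebra.TensorProduct.lift (Algebra.ofId R A)
    (Ideal.Quotient.liftₐ I₁ f₁ hI₁) fun _ _ => Commute.all _ _
  let Φ₀ : MvPolynomial (Fin n) R →ₐ[R] R ⊗[R₁] A₁ :=
    MvPolynomial.aeval (R := R) fun i => (1 : R) ⊗ₜ[R₁] (Ideal.Quotient.mk I₁ (X i) : A₁)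
  have hΦ₀ : ∀ q, Φ₀ (MvPolynomial.map (algebraMap R₁ R) q) = (1 : R) ⊗ₜ Ideal.Quotient.mk I₁ q := by
    intro q
    induction q using MvPolynomial.induction_on with
    | C r =>
      rw [MvPolynomial.map_C, ← MvPolynomial.algebraMap_eq, Φ₀.commutes,
        Algebra.TensorProduct.algebraMap_apply, Algebra.algebraMap_self_apply,
        ← MvPolynomial.algebraMap_eq, Ideal.Quotient.mk_algebraMap, Algebra.algebraMap_eq_smul_one r,
        Algebra.algebraMap_eq_smul_one (R := R₁) (A := MvPolynomial (Fin n) R₁ ⧸ I₁), TensorProduct.smul_tmul]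
    | add a b ha hb => simp only [map_add, ha, hb, TensorProduct.tmul_add]
    | mul_X a i ha => simp [ha, Φ₀, Algebra.TensorProduct.tmul_mul_tmul]
  have hker : ∀ q ∈ RingHom.ker φ, Φ₀ q = 0 := by
    rw [← hI₀]
    intro q hq
    suffices I₀.map (MvPolynomial.map (algebraMap R₀ R)) ≤ RingHom.ker Φ₀ from this hq
    rw [Ideal.map_le_iff_le_comap]
    intro z hz
    rw [Ideal.mem_comap, RingHom.mem_ker, ← hmap, hΦ₀,
      Ideal.Quotient.eq_zero_iff_mem.2 (Ideal.mem_map_of_mem _ hz), TensorProduct.tmul_zero]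
  have hinv : ∀ q, Ψ (Φ₀ q) = φ q := fun q => by
    suffices Ψ.comp Φ₀ = φ from DFunLike.congr_fun this q
    refine MvPolynomial.algHom_ext fun i => ?_
    simp [Ψ, Φ₀, f₁]
    exact MvPolynomial.aeval_X (R := R₁) _ i
  have hΨs : Function.Surjective Ψ := fun a => by
    obtain ⟨q, rfl⟩ := hφ a; exact ⟨Φ₀ q, hinv q⟩
  have hΦ₀s : Function.Surjective Φ₀ := by
    intro z
    induction z using TensorProduct.induction_on with
    | zero => exact ⟨0, map_zero _⟩
    | tmul r a =>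
      obtain ⟨q, rfl⟩ := Ideal.Quotient.mk_surjective a
      exact ⟨r • MvPolynomial.map (algebraMap R₁ R) q, by
        rw [map_smul, hΦ₀, TensorProduct.smul_tmul', smul_eq_mul, mul_one]⟩
    | add a b ha hb =>
      obtain ⟨a, rfl⟩ := ha; obtain ⟨b, rfl⟩ := hb; exact ⟨a + b, map_add _ _ _⟩
  have hΨi : Function.Injective Ψ := by
    rw [injective_iff_map_eq_zero]
    intro z hz
    obtain ⟨q, rfl⟩ := hΦ₀s z
    exact hker q (by rw [RingHom.mem_ker, ← hinv, hz])
  have hΨh : Ψ ((1 : R) ⊗ₜ h₁) = φ p := by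
    rw [← hinv p, ← hp₀, ← hmap, hΦ₀]
  let e : R ⊗[R₁] A₁ ≃ₐ[R] A := AlgEquiv.ofBijective Ψ ⟨hΨi, hΨs⟩
  haveI : Algebra.FiniteType R₁ A₁ := Algebra.FiniteType.of_surjective
    (Ideal.Quotient.mkₐ R₁ I₁) Ideal.Quotient.mk_surjective
  exact flat_atPrime_of_kill h₁ e (φ p) hΨh hh Q hQ

open MvPolynomial in
/-- A finitely presented algebra is flat at the primes containing a nonzerodivisor with flat quotient. -/
theorem flat_atPrime_of_nzd [Algebra.FinitePresentation R A] (h : A) (hh : h ∈ nonZeroDivisors A)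
    [Module.Flat R (A ⧸ Ideal.span {h})] (Q : Ideal A) [Q.IsPrime] (hQ : h ∈ Q) :
    Module.Flat R (Localization.AtPrime Q) := by
  classical
  obtain ⟨n, φ, hφ, ⟨G, hG⟩⟩ := Algebra.FinitePresentation.out (R := R) (A := A)
  obtain ⟨p, rfl⟩ := hφ h
  let c : Finset R := (insert p G).biUnion fun g => g.coeffs
  let R₀ : Subalgebra ℤ R := Algebra.adjoin ℤ (c : Set R)
  haveI : Algebra.FiniteType ℤ R₀ := (Subalgebra.fg_iff_finiteType R₀).1 (Subalgebra.fg_adjoin_finset c)
  haveI : IsNoetherianRing R₀ := Algebra.FiniteType.isNoetherianRing ℤ R₀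
  have hlift : ∀ g ∈ insert p G, ∃ q : MvPolynomial (Fin n) R₀, MvPolynomial.map (algebraMap R₀ R) q = g :=
    fun g hg => MvPolynomial.mem_range_map_iff_coeffs_subset.2 fun x hx =>
      ⟨⟨x, Algebra.subset_adjoin (Finset.mem_biUnion.2 ⟨g, hg, hx⟩)⟩, rfl⟩
  choose! lg hlg using hlift
  let I₀ : Ideal (MvPolynomial (Fin n) R₀) := Ideal.span (lg '' (G : Set (MvPolynomial (Fin n) R)))
  let J₀ : Ideal (MvPolynomial (Fin n) R₀) := I₀ ⊔ Ideal.span {lg p}
  have hI₀ : I₀.map (MvPolynomial.map (algebraMap R₀ R)) = RingHom.ker φ := by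
    rw [show RingHom.ker φ = Ideal.span (G : Set (MvPolynomial (Fin n) R)) from hG.symm, Ideal.map_span,
      Set.image_image, Set.image_congr fun g hg => hlg g (Finset.mem_insert_of_mem hg), Set.image_id']
  -- flatness of the quotient descends
  have hflat : FlatModel.FlatC (FibFlat.relMod J₀) R := by
    rw [FibFlat.flatC_relMod_iff, Ideal.map_sup, hI₀, Ideal.map_span, Set.image_singleton,
      hlg p (Finset.mem_insert_self _ _)]
    let ψ : MvPolynomial (Fin n) R →ₐ[R] A ⧸ Ideal.span {φ p} := (Ideal.Quotient.mkₐ R _).comp φ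
    have hk : RingHom.ker ψ = RingHom.ker φ ⊔ Ideal.span {p} := by
      change RingHom.ker ((Ideal.Quotient.mk (Ideal.span {φ p})).comp φ.toRingHom) = _
      rw [← RingHom.comap_ker, Ideal.mk_ker,
        show (Ideal.span {φ p} : Ideal A) = (Ideal.span {p}).map φ.toRingHom by
          rw [Ideal.map_span, Set.image_singleton]; rfl,
        Ideal.comap_map_of_surjective φ.toRingHom hφ, sup_comm]
      rfl
    exact Module.Flat.of_linearEquiv ((Ideal.quotientEquivAlgOfEq R hk.symm).trans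
      (Ideal.quotientKerAlgEquivOfSurjective (f := ψ) (Ideal.Quotient.mk_surjective.comp hφ))).toLinearEquiv
  obtain ⟨R₁, hR₁, hflat₁⟩ := FlatModel.exists_fg_flatC _ hflat
  rw [FibFlat.flatC_relMod_iff] at hflat₁
  haveI : Algebra.FiniteType R₀ R₁ := (Subalgebra.fg_iff_finiteType R₁).1 hR₁
  haveI : IsNoetherianRing R₁ := Algebra.FiniteType.isNoetherianRing R₀ R₁
  exact flat_atPrime_aux φ hφ p hh (lg p) (hlg p (Finset.mem_insert_self _ _)) I₀ hI₀ hflat₁ Q hQ

end Groth.Agent.Div86.FlatCartier
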