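import Groth.Agent.Div86.FlatCartier.NonNoeth
import Groth.Agent.Div86.Descend.StI
import Groth.Agent.FlatX.RelCartier
import Groth.Agent.Triage.SliceFlatSch
import Groth.Agent.FlatDvr.FibreStalk
import Groth.Prelude.Def_CurvBase

/-!
Relative effective Cartier divisors over an arbitrary base.
-/

set_option autoImplicit false
set_option linter.style.haveILetI false
set_option maxHeartbeats 400000

universe u

open CategoryTheory AlgebraicGeometry TopologicalSpace IsLocalRing

namespace Groth.Agent.Div86.FlatCartier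

variable {X S : Scheme.{u}}

/-- The total space is flat along a relative effective Cartier divisor. -/
theorem flat_stalkMap_of_mem_support (f : X ⟶ S) [LocallyOfFinitePresentation f] {I : X.IdealSheafData}
    (hI : BlowUp.IsEffCartierIdeal I) (fI : Flat (I.subschemeι ≫ f)) {x : X} (hx : x ∈ I.support) :
    (f.stalkMap x).hom.Flat := by
  obtain ⟨W, hxW⟩ := FlatX.exists_chart f x
  obtain ⟨U, hxU, e, a, ha, hIa⟩ := FlatX.exists_locGen hI hxW
  have h1 := FlatX.flat_congr _ hIa (FlatX.flat_quotApp f I fI W U e)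
  letI := (f.appLE W.1 U.1 e).hom.toAlgebra
  haveI : Algebra.FinitePresentation Γ(S, W.1) Γ(X, U.1) :=
    HasRingHomProperty.appLE @LocallyOfFinitePresentation f ‹_› W U e
  haveI : Module.Flat Γ(S, W.1) (Γ(X, U.1) ⧸ Ideal.span {a}) := RingHom.flat_algebraMap_iff.mp h1
  have haQ : a ∈ (U.2.primeIdealOf ⟨x, hxU⟩).asIdeal := by
    letI := X.presheaf.algebra_section_stalk ⟨x, hxU⟩
    haveI := U.2.isLocalization_stalk ⟨x, hxU⟩
    refine (IsLocalization.AtPrime.to_map_mem_maximal_iff (X.presheaf.stalk x) _ a).1 fun hu => ?_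
    rw [Scheme.IdealSheafData.mem_support_iff_of_mem (U := U) hxU, hIa, Scheme.zeroLocus_span,
      Scheme.mem_zeroLocus_iff] at hx
    exact hx a rfl ((Scheme.mem_basicOpen _ _ _ hxU).mpr hu)
  haveI := flat_atPrime_of_nzd (R := Γ(S, W.1)) a ha (U.2.primeIdealOf ⟨x, hxU⟩).asIdeal haQ
  letI := X.presheaf.algebra_section_stalk ⟨x, hxU⟩
  haveI := U.2.isLocalization_stalk ⟨x, hxU⟩
  letI : Algebra Γ(S, W.1) (X.presheaf.stalk x) :=
    ((X.presheaf.germ U.1 x hxU).hom.comp (f.appLE W.1 U.1 e).hom).toAlgebra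
  haveI : IsScalarTower Γ(S, W.1) Γ(X, U.1) (X.presheaf.stalk x) :=
    IsScalarTower.of_algebraMap_eq fun _ => rfl
  have hflat : Module.Flat Γ(S, W.1) (X.presheaf.stalk x) :=
    Module.Flat.of_linearEquiv ((IsLocalization.algEquiv (U.2.primeIdealOf ⟨x, hxU⟩).asIdeal.primeCompl
      (X.presheaf.stalk x) (Localization.AtPrime (U.2.primeIdealOf ⟨x, hxU⟩).asIdeal)).toLinearEquiv.restrictScalars _)
  letI := S.presheaf.algebra_section_stalk ⟨f x, hxW⟩
  haveI := W.2.isLocalization_stalk ⟨f x, hxW⟩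
  letI := (f.stalkMap x).hom.toAlgebra
  haveI : IsScalarTower Γ(S, W.1) (S.presheaf.stalk (f x)) (X.presheaf.stalk x) := by
    refine IsScalarTower.of_algebraMap_eq fun w => ?_
    change X.presheaf.germ U.1 x hxU (f.appLE W.1 U.1 e w) = f.stalkMap x (S.presheaf.germ W.1 (f x) hxW w)
    rw [Scheme.Hom.germ_stalkMap_apply, Scheme.Hom.appLE, CommRingCat.comp_apply,
      TopCat.Presheaf.germ_res_apply]
  exact (Module.flat_iff_of_isLocalization (S.presheaf.stalk (f x))
    (W.2.primeIdealOf ⟨f x, hxW⟩).asIdeal.primeCompl _).mpr hflat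

/-- An open neighbourhood of a relative effective Cartier divisor is flat over the base. -/
theorem exists_flat_open (f : X ⟶ S) [LocallyOfFinitePresentation f] {I : X.IdealSheafData}
    (hI : BlowUp.IsEffCartierIdeal I) (fI : Flat (I.subschemeι ≫ f)) :
    ∃ U : X.Opens, (I.support : Set X) ⊆ U ∧ Flat (U.ι ≫ f) := by
  let F : X.Opens := ⟨{x | (f.stalkMap x).hom.Flat}, FlatLocus.isOpen_flat_locus f⟩
  exact ⟨F, fun x hx => flat_stalkMap_of_mem_support f hI fI hx,
    Flat.of_stalkMap _ fun z => (FibFlat.flat_stalk_open_comp F.ι f z).2 z.2⟩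

/-- The point lifts to the fibre and regular elements on the fibre are regular modulo `m_s`. -/
theorem exists_fibre_gen (φ : X ⟶ S) (I : X.IdealSheafData) (s : S) (w : ↥(φ.fiber s))
    (hfib : BlowUp.IsEffCartierIdeal (I.comap (φ.fiberι s))) :
    ∃ h ∈ Descend.stI I (φ.fiberι s w),
      Ideal.Quotient.mk ((maximalIdeal (S.presheaf.stalk (φ (φ.fiberι s w)))).map
        (φ.stalkMap (φ.fiberι s w)).hom) h ∈ nonZeroDivisors (X.presheaf.stalk (φ.fiberι s w) ⧸
          (maximalIdeal (S.presheaf.stalk (φ (φ.fiberι s w)))).map (φ.stalkMap (φ.fiberι s w)).hom) ∧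
      Descend.stI I (φ.fiberι s w) ≤ Ideal.span {h} ⊔
        (maximalIdeal (S.presheaf.stalk (φ (φ.fiberι s w)))).map (φ.stalkMap (φ.fiberι s w)).hom := by
  let π := ((φ.fiberι s).stalkMap w).hom
  have hπ : Function.Surjective π := (φ.fiberι s).stalkMap_surjective w
  have hker := FlatDvr.ker_stalkMap_fiberι φ w
  obtain ⟨U, hwU, g, hg, hgen⟩ := hfib w
  have hst := Descend.stI_eq_span _ U hwU hgen
  rw [Descend.stI_comap] at hst
  have hgn := MeroX.germ_mem_nonZeroDivisors U.2 hg w hwU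
  obtain ⟨h, hh, hhg⟩ := (Ideal.mem_map_iff_of_surjective _ hπ).1
    (hst.ge (Ideal.mem_span_singleton_self _))
  refine ⟨h, hh, ?_, ?_⟩
  · rw [mem_nonZeroDivisors_iff_right]
    intro z hz
    obtain ⟨z, rfl⟩ := Ideal.Quotient.mk_surjective z
    rw [← map_mul, Ideal.Quotient.eq_zero_iff_mem, ← hker, RingHom.mem_ker, map_mul] at hz
    rw [Ideal.Quotient.eq_zero_iff_mem, ← hker, RingHom.mem_ker]
    refine mem_nonZeroDivisors_iff_right.1 hgn _ ?_
    rw [← hhg]; exact hz
  · intro a ha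
    have h1 : π a ∈ Ideal.span {π h} := by
      rw [hhg]; exact hst.le (Ideal.mem_map_of_mem _ ha)
    obtain ⟨c, hc⟩ := Ideal.mem_span_singleton.1 h1
    obtain ⟨c, rfl⟩ := hπ c
    refine Submodule.mem_sup.2 ⟨h * c, Ideal.mul_mem_right _ _ (Ideal.mem_span_singleton_self h),
      a - h * c, ?_, by ring⟩
    rw [← hker, RingHom.mem_ker]
    show π (a - h * c) = 0
    rw [map_sub, map_mul, hc, sub_self]

open TensorProduct in
/-- If the quotient is flat, an element of the ideal vanishing modulo `a` lies in `a` times the ideal. -/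
theorem inf_map_le_mul {R B : Type u} [CommRing R] [CommRing B] [Algebra R B] (J : Ideal B)
    [Module.Flat R (B ⧸ J)] (a : Ideal R) : J ⊓ a.map (algebraMap R B) ≤ a.map (algebraMap R B) * J := by
  rintro x ⟨hxJ, hxa⟩
  let ev : B ⊗[R] a →ₗ[B] B :=
    (AlgebraTensorModule.rid R B B).toLinearMap ∘ₗ a.subtype.baseChange B
  have hev : ∀ (b : B) (r : a), ev (b ⊗ₜ r) = algebraMap R B r * b := fun b r => by
    simp [ev, Algebra.smul_def]
  obtain ⟨t, rfl⟩ : x ∈ LinearMap.range ev := by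
    suffices a.map (algebraMap R B) ≤ LinearMap.range ev from this hxa
    rw [Ideal.map, Ideal.span, Submodule.span_le]
    rintro _ ⟨r, hr, rfl⟩
    exact ⟨1 ⊗ₜ ⟨r, hr⟩, (hev 1 ⟨r, hr⟩).trans (mul_one _)⟩
  let q : B →ₗ[R] B ⧸ J := (Ideal.Quotient.mkₐ R J).toLinearMap
  let i : J.restrictScalars R →ₗ[R] B := (J.restrictScalars R).subtype
  have hq : Function.Exact i q := fun y => by
    simp [i, q, Ideal.Quotient.eq_zero_iff_mem]
  have key : ∀ z, TensorProduct.rid R (B ⧸ J) (a.subtype.lTensor (B ⧸ J) (q.rTensor a z)) =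
      Ideal.Quotient.mk J (ev z) := by
    intro z
    induction z using TensorProduct.induction_on with
    | zero => simp
    | tmul b r => simp [q, hev, Algebra.smul_def]
    | add y z hy hz => simp only [map_add, hy, hz]
  have hz : q.rTensor a t = 0 := by
    refine (injective_iff_map_eq_zero _).1
      (Module.Flat.lTensor_preserves_injective_linearMap (M := B ⧸ J) a.subtype Subtype.val_injective) _ ?_
    refine (TensorProduct.rid R (B ⧸ J)).injective ?_
    rw [key, Ideal.Quotient.eq_zero_iff_mem.2 hxJ, map_zero]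
  obtain ⟨y, rfl⟩ := (rTensor_exact a hq Ideal.Quotient.mk_surjective t).1 hz
  clear hz hxJ hxa
  induction y using TensorProduct.induction_on with
  | zero => simp
  | tmul j r =>
    rw [LinearMap.rTensor_tmul, hev]
    exact Ideal.mul_mem_mul (Ideal.mem_map_of_mem _ r.2) j.2
  | add y z hy hz => rw [map_add, map_add]; exact add_mem hy hz

/-- Stalk ideals at points of the support are proper. -/
theorem stI_le_maximal (I : X.IdealSheafData) {x : X} (hx : x ∈ I.support) :
    Descend.stI I x ≤ maximalIdeal (X.presheaf.stalk x) := by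
  obtain ⟨U, hU, hxU, -⟩ := exists_isAffineOpen_mem_and_subset (x := x) (U := ⊤) trivial
  rw [Descend.stI_eq I ⟨U, hU⟩ hxU, Ideal.map_le_iff_le_comap]
  intro a ha
  rw [Ideal.mem_comap, IsLocalRing.mem_maximalIdeal, mem_nonunits_iff]
  intro hu
  rw [I.mem_support_iff_of_mem (U := ⟨U, hU⟩) hxU, Scheme.mem_zeroLocus_iff] at hx
  exact hx a ha ((Scheme.mem_basicOpen _ _ _ hxU).2 hu)

/-- The stalk quotient of a flat closed subscheme is flat over the base. -/
theorem flat_stalk_quot (φ : X ⟶ S) (I : X.IdealSheafData) [Flat (I.subschemeι ≫ φ)] (x : X) :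
    ((Ideal.Quotient.mk (Descend.stI I x)).comp (φ.stalkMap x).hom).Flat := by
  obtain ⟨W, hxW⟩ := FlatX.exists_chart φ x
  obtain ⟨U, hU, hxU, e⟩ := exists_isAffineOpen_mem_and_subset (x := x) (U := φ ⁻¹ᵁ W.1) hxW
  have h1 := FlatX.flat_quotApp φ I inferInstance W ⟨U, hU⟩ e
  letI := (φ.appLE W.1 U e).hom.toAlgebra
  letI := X.presheaf.algebra_section_stalk ⟨x, hxU⟩
  haveI := hU.isLocalization_stalk ⟨x, hxU⟩
  letI : Algebra Γ(S, W.1) (X.presheaf.stalk x) :=
    ((X.presheaf.germ U x hxU).hom.comp (φ.appLE W.1 U e).hom).toAlgebra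
  haveI : IsScalarTower Γ(S, W.1) Γ(X, U) (X.presheaf.stalk x) :=
    IsScalarTower.of_algebraMap_eq fun _ => rfl
  have hq := FlatX.flat_quot_atPrime (I.ideal ⟨U, hU⟩) (hU.primeIdealOf ⟨x, hxU⟩).asIdeal
    (X.presheaf.stalk x) (RingHom.flat_algebraMap_iff.mp h1)
  rw [show (I.ideal ⟨U, hU⟩).map (algebraMap Γ(X, U) (X.presheaf.stalk x)) = Descend.stI I x from
    (Descend.stI_eq I ⟨U, hU⟩ hxU).symm] at hq
  letI := S.presheaf.algebra_section_stalk ⟨φ x, hxW⟩
  haveI := W.2.isLocalization_stalk ⟨φ x, hxW⟩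
  letI := (φ.stalkMap x).hom.toAlgebra
  haveI : IsScalarTower Γ(S, W.1) (S.presheaf.stalk (φ x)) (X.presheaf.stalk x) := by
    refine IsScalarTower.of_algebraMap_eq fun w => ?_
    change X.presheaf.germ U x hxU (φ.appLE W.1 U e w) = φ.stalkMap x (S.presheaf.germ W.1 (φ x) hxW w)
    rw [Scheme.Hom.germ_stalkMap_apply, Scheme.Hom.appLE, CommRingCat.comp_apply,
      TopCat.Presheaf.germ_res_apply]
  haveI : IsScalarTower Γ(S, W.1) (S.presheaf.stalk (φ x)) (X.presheaf.stalk x ⧸ Descend.stI I x) := by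
    refine IsScalarTower.of_algebraMap_eq fun w => ?_
    exact congrArg (Ideal.Quotient.mk (Descend.stI I x))
      (IsScalarTower.algebraMap_apply Γ(S, W.1) (S.presheaf.stalk (φ x)) (X.presheaf.stalk x) w)
  show Module.Flat (S.presheaf.stalk (φ x)) (X.presheaf.stalk x ⧸ Descend.stI I x)
  exact (Module.flat_iff_of_isLocalization (S.presheaf.stalk (φ x))
    (W.2.primeIdealOf ⟨φ x, hxW⟩).asIdeal.primeCompl _).mpr hq

/-- Nakayama: the generator on the fibre generates. -/
theorem eq_span_of_fibre (φ : X ⟶ S) (I : X.IdealSheafData) [Flat (I.subschemeι ≫ φ)] (x : X)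
    (hfg : (Descend.stI I x).FG) {h : X.presheaf.stalk x} (hh : h ∈ Descend.stI I x)
    (hle : Descend.stI I x ≤ Ideal.span {h} ⊔
      (maximalIdeal (S.presheaf.stalk (φ x))).map (φ.stalkMap x).hom) :
    Descend.stI I x = Ideal.span {h} := by
  refine le_antisymm ?_ ((Ideal.span_singleton_le_iff_mem _).2 hh)
  refine Submodule.le_of_le_smul_of_le_jacobson_bot (I := maximalIdeal (X.presheaf.stalk x)) hfg
    (IsLocalRing.jacobson_eq_maximalIdeal ⊥ bot_ne_top).ge ?_
  intro a ha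
  obtain ⟨b, hb, c, hc, rfl⟩ := Submodule.mem_sup.1 (hle ha)
  refine Submodule.add_mem_sup hb ?_
  have hcI : c ∈ Descend.stI I x := by
    have := sub_mem ha ((Ideal.span_singleton_le_iff_mem _).2 hh hb)
    simpa using this
  have hq := flat_stalk_quot φ I x
  letI := (φ.stalkMap x).hom.toAlgebra
  haveI : Module.Flat (S.presheaf.stalk (φ x)) (X.presheaf.stalk x ⧸ Descend.stI I x) := hq
  have h2 := inf_map_le_mul (R := S.presheaf.stalk (φ x)) (Descend.stI I x) (maximalIdeal _) ⟨hcI, hc⟩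
  refine Ideal.mul_mono_left (Ideal.map_le_iff_le_comap.2 fun r hr => ?_) h2
  exact map_nonunit (φ.stalkMap x).hom r hr

/-- Two finitely generated ideals equal at a prime are equal near it. -/
theorem exists_map_eq_of_fg {B : Type u} [CommRing B] (Q : Ideal B) [Q.IsPrime] (BQ : Type u)
    [CommRing BQ] [Algebra B BQ] [IsLocalization.AtPrime BQ Q] {J K : Ideal B} (hJ : J.FG) (hK : K.FG)
    (h : J.map (algebraMap B BQ) = K.map (algebraMap B BQ)) :
    ∃ g ∉ Q, ∀ (B' : Type u) [CommRing B'] [Algebra B B'], IsUnit (algebraMap B B' g) →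
      J.map (algebraMap B B') = K.map (algebraMap B B') := by
  classical
  have key : ∀ {J K : Ideal B}, J.FG → J.map (algebraMap B BQ) ≤ K.map (algebraMap B BQ) →
      ∃ g ∉ Q, ∀ a ∈ J, g * a ∈ K := by
    intro J K ⟨G, hG⟩ h
    have : ∀ a ∈ G, ∃ m ∉ Q, m * a ∈ K := fun a ha =>
      (IsLocalization.algebraMap_mem_map_algebraMap_iff Q.primeCompl BQ _ _).1
        (h (Ideal.mem_map_of_mem _ (hG.le (Ideal.subset_span ha))))
    choose! m hm hmK using this
    refine ⟨G.prod m, fun hmem => ?_, fun a ha => ?_⟩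
    · obtain ⟨b, hb, hbQ⟩ := (Ideal.IsPrime.prod_mem_iff (hp := ‹Q.IsPrime›)).1 hmem
      exact hm b hb hbQ
    · suffices J ≤ Submodule.comap (LinearMap.mulLeft B (G.prod m)) K from this ha
      refine hG.ge.trans (Ideal.span_le.2 fun b hb => ?_)
      show G.prod m * b ∈ K
      obtain ⟨c, hc⟩ : m b ∣ G.prod m := Finset.dvd_prod_of_mem m hb
      rw [hc, mul_right_comm]
      exact K.mul_mem_right _ (hmK b hb)
  obtain ⟨g₁, hg₁, h₁⟩ := key hJ h.le
  obtain ⟨g₂, hg₂, h₂⟩ := key hK h.ge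
  refine ⟨g₁ * g₂, fun hg => (‹Q.IsPrime›.mem_or_mem hg).elim hg₁ hg₂, fun B' _ _ hu => ?_⟩
  rw [map_mul, IsUnit.mul_iff] at hu
  refine le_antisymm (Ideal.map_le_iff_le_comap.2 fun a ha => ?_) (Ideal.map_le_iff_le_comap.2 fun a ha => ?_)
  · exact (Ideal.unit_mul_mem_iff_mem _ hu.1).1 (by rw [← map_mul]; exact Ideal.mem_map_of_mem _ (h₁ a ha))
  · exact (Ideal.unit_mul_mem_iff_mem _ hu.2).1 (by rw [← map_mul]; exact Ideal.mem_map_of_mem _ (h₂ a ha))

/-- A chart of a relative effective Cartier divisor around a point of it. -/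
theorem exists_chart_of_gen (φ : X ⟶ S) [Flat φ] [LocallyOfFinitePresentation φ] (I : X.IdealSheafData)
    (x : X) (U₀ : X.affineOpens) (hx₀ : x ∈ U₀.1) (hfg : (I.ideal U₀).FG)
    (h : X.presheaf.stalk x) (hm : h ∈ maximalIdeal (X.presheaf.stalk x))
    (hI : Descend.stI I x = Ideal.span {h})
    (hreg : Ideal.Quotient.mk ((maximalIdeal (S.presheaf.stalk (φ x))).map (φ.stalkMap x).hom) h ∈
      nonZeroDivisors (X.presheaf.stalk x ⧸ (maximalIdeal (S.presheaf.stalk (φ x))).map (φ.stalkMap x).hom)) :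
    ∃ (W : S.affineOpens) (U : X.affineOpens) (e : U.1 ≤ φ ⁻¹ᵁ W.1), x ∈ U.1 ∧
      FlatX.LocGen I U ∧ (FlatX.quotApp φ I W U e).Flat := by
  obtain ⟨V, hV, U, hU, hx, hUle, e, hs', hgerm, -, hwr, hfl⟩ :=
    Triage.SliceFlat.exists_slice_sch φ x (Flat.stalkMap φ x) [h] (by simpa using hm) (fun i hi z hz => by
      obtain rfl : i = 0 := by simpa using hi
      simp only [List.take_zero, Ideal.ofList_nil, bot_sup_eq, List.getElem_cons_zero] at hz ⊢
      rw [← Ideal.Quotient.eq_zero_iff_mem, map_mul] at hz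
      rw [← Ideal.Quotient.eq_zero_iff_mem]
      exact (mem_nonZeroDivisors_iff.1 hreg).1 _ hz) U₀.1 hx₀
  match hs', hgerm with
  | [h'], hgerm =>
    simp only [List.map_cons, List.map_nil, List.cons.injEq, and_true] at hgerm
    have hnzd : h' ∈ nonZeroDivisors Γ(X, U) := by
      have h0 := (RingTheory.Sequence.isWeaklyRegular_cons_iff Γ(X, U) h' []).1 hwr
      rw [mem_nonZeroDivisors_iff]
      refine ⟨fun z hz => ?_, fun z hz => ?_⟩ <;>
        exact h0.1.right_eq_zero_of_smul (by simpa [smul_eq_mul, mul_comm] using hz)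
    have hflU : ((Ideal.Quotient.mk (Ideal.span {h'})).comp (φ.appLE V U e).hom).Flat :=
      FlatX.flat_congr _ (by simp) (hfl 1)
    have hfgU : (I.ideal ⟨U, hU⟩).FG := by
      rw [← I.map_ideal (U := ⟨U, hU⟩) (V := U₀) hUle]
      exact hfg.map _
    letI := X.presheaf.algebra_section_stalk ⟨x, hx⟩
    haveI := hU.isLocalization_stalk ⟨x, hx⟩
    obtain ⟨g, hg, heq⟩ := exists_map_eq_of_fg (hU.primeIdealOf ⟨x, hx⟩).asIdeal (X.presheaf.stalk x)
      hfgU (Submodule.fg_span_singleton h') (by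
        rw [Ideal.map_span, Set.image_singleton]
        exact ((Descend.stI_eq I ⟨U, hU⟩ hx).symm.trans hI).trans (congrArg (fun t => Ideal.span {t}) hgerm.symm))
    have hxg : x ∈ X.basicOpen g := by
      rw [X.mem_basicOpen g x hx]
      exact IsLocalization.map_units (X.presheaf.stalk x)
        (⟨g, hg⟩ : (hU.primeIdealOf ⟨x, hx⟩).asIdeal.primeCompl)
    let U' := X.affineBasicOpen (U := ⟨U, hU⟩) g
    haveI := hU.isLocalization_basicOpen g
    let a : Γ(X, X.basicOpen g) := algebraMap Γ(X, U) Γ(X, X.basicOpen g) h'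
    have hIU' : I.ideal U' = Ideal.span {a} := by
      show I.ideal ⟨X.basicOpen g, hU.basicOpen g⟩ = Ideal.span {a}
      refine (I.map_ideal_basicOpen ⟨U, hU⟩ g).symm.trans ?_
      refine (heq Γ(X, X.basicOpen g) (IsLocalization.Away.algebraMap_isUnit g)).trans ?_
      rw [Ideal.map_span, Set.image_singleton]
    have e' : X.basicOpen g ≤ φ ⁻¹ᵁ V := (X.basicOpen_le g).trans e
    refine ⟨⟨V, hV⟩, U', e', hxg, ⟨a, MeroX.nonZeroDivisors_map (Submonoid.powers g) (S := Γ(X, X.basicOpen g)) hnzd, hIU'⟩, ?_⟩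
    refine FlatX.flat_congr _ hIU'.symm ?_
    let ψ : Γ(X, U) ⧸ Ideal.span {h'} →+* Γ(X, X.basicOpen g) ⧸ Ideal.span {a} :=
      Ideal.quotientMap _ (algebraMap Γ(X, U) Γ(X, X.basicOpen g)) (by
        rw [Ideal.span_singleton_le_iff_mem, Ideal.mem_comap]; exact Ideal.mem_span_singleton_self a)
    have hψ : ψ.Flat := by
      letI := ψ.toAlgebra
      rw [← RingHom.algebraMap_toAlgebra ψ, RingHom.flat_algebraMap_iff]
      have hJ : Ideal.span {a} = (Ideal.span {h'}).map (algebraMap Γ(X, U) Γ(X, X.basicOpen g)) := by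
        rw [Ideal.map_span, Set.image_singleton]
      haveI : IsLocalization (Algebra.algebraMapSubmonoid (Γ(X, U) ⧸ Ideal.span {h'}) (Submonoid.powers g))
          (Γ(X, X.basicOpen g) ⧸ Ideal.span {a}) :=
        IsLocalization.of_surjective (Submonoid.powers g) Γ(X, X.basicOpen g) (Ideal.Quotient.mk _)
          Ideal.Quotient.mk_surjective (Ideal.Quotient.mk _) Ideal.Quotient.mk_surjective
          (RingHom.ext fun _ => rfl) (by rw [Ideal.mk_ker, Ideal.mk_ker]; exact hJ.le)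
      exact IsLocalization.flat _ (Algebra.algebraMapSubmonoid _ (Submonoid.powers g))
    have hcomp : (Ideal.Quotient.mk (Ideal.span {a})).comp (φ.appLE V (X.basicOpen g) e').hom =
        ψ.comp ((Ideal.Quotient.mk (Ideal.span {h'})).comp (φ.appLE V U e).hom) := by
      ext r
      show _ = Ideal.Quotient.mk _ ((φ.appLE V U e ≫ X.presheaf.map (homOfLE (X.basicOpen_le g)).op).hom r)
      rw [Scheme.Hom.appLE_map]
      rfl
    show ((Ideal.Quotient.mk (Ideal.span {a})).comp (φ.appLE V (X.basicOpen g) e').hom).Flat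
    rw [hcomp]
    exact RingHom.Flat.comp hflU hψ

/-- A chart away from the divisor. -/
theorem exists_chart_of_notMem (φ : X ⟶ S) (I : X.IdealSheafData) {x : X} (hx : x ∉ I.support) :
    ∃ (W : S.affineOpens) (U : X.affineOpens) (e : U.1 ≤ φ ⁻¹ᵁ W.1), x ∈ U.1 ∧
      FlatX.LocGen I U ∧ (FlatX.quotApp φ I W U e).Flat := by
  obtain ⟨W, hxW⟩ := FlatX.exists_chart φ x
  obtain ⟨U, hU, hxU, hle⟩ := exists_isAffineOpen_mem_and_subset (x := x)
    (U := φ ⁻¹ᵁ W.1 ⊓ ⟨(I.support : Set X)ᶜ, I.support.isClosed.isOpen_compl⟩) ⟨hxW, hx⟩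
  have htop : I.ideal ⟨U, hU⟩ = ⊤ := by
    refine top_le_iff.1 (hU.ideal_le_iff.2 fun z hz => ?_)
    rw [← Descend.stI_eq I ⟨U, hU⟩ hz, Descend.stI_eq_top fun h => (hle hz).2 h]
    exact le_top
  have hle' : U ≤ φ ⁻¹ᵁ W.1 := fun y hy => (hle hy).1
  refine ⟨W, ⟨U, hU⟩, hle', hxU, ⟨1, one_mem _, by rw [htop, Ideal.span_singleton_one]⟩,
    FlatX.flat_congr _ htop.symm ?_⟩
  letI := ((Ideal.Quotient.mk (⊤ : Ideal Γ(X, U))).comp (φ.appLE W.1 U hle').hom).toAlgebra
  haveI : Subsingleton (Γ(X, U) ⧸ (⊤ : Ideal Γ(X, U))) := Ideal.Quotient.subsingleton_iff.2 rfl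
  show Module.Flat Γ(S, W.1) (Γ(X, U) ⧸ (⊤ : Ideal Γ(X, U)))
  exact Module.Flat.of_free

/-- Globalization. -/
theorem isEffCartier_and_flat_of_charts (φ : X ⟶ S) (I : X.IdealSheafData)
    (h : ∀ x ∈ I.support, ∃ (W : S.affineOpens) (U : X.affineOpens) (e : U.1 ≤ φ ⁻¹ᵁ W.1), x ∈ U.1 ∧
      FlatX.LocGen I U ∧ (FlatX.quotApp φ I W U e).Flat) :
    BlowUp.IsEffCartierIdeal I ∧ Flat (I.subschemeι ≫ φ) := by
  classical
  have h' : ∀ x, ∃ (W : S.affineOpens) (U : X.affineOpens) (e : U.1 ≤ φ ⁻¹ᵁ W.1), x ∈ U.1 ∧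
      FlatX.LocGen I U ∧ (FlatX.quotApp φ I W U e).Flat := fun x =>
    if hx : x ∈ I.support then h x hx else exists_chart_of_notMem φ I hx
  refine ⟨fun x => ?_, FlatX.flat_subscheme_of_charts φ I fun x => ?_⟩
  · obtain ⟨W, U, e, hxU, hgen, -⟩ := h' x; exact ⟨U, hxU, hgen⟩
  · obtain ⟨W, U, e, hxU, -, hf⟩ := h' x; exact ⟨W, U, e, hxU, hf⟩

end Groth.Agent.Div86.FlatCartier
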